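import Groth.Agent.DualLib.GorFlat
import Mathlib.RingTheory.GradedAlgebra.HomogeneousLocalization
import Mathlib.RingTheory.Flat.Localization
import Mathlib.RingTheory.RingHom.FaithfullyFlat

/-!
# The localization at a homogeneous prime over its degree zero part

If a homogeneous prime `p` misses elements of two consecutive degrees, then `A_p` is a localization of the
polynomial ring over the degree zero part of the homogeneous localization at `p`.
-/

set_option autoImplicit false
set_option linter.unusedSectionVars false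

universe u

open Polynomial HomogeneousLocalization

namespace Groth.Agent.GrProjLib

variable {A : Type u} [CommRing A] (𝒜 : ℕ → AddSubgroup A) [GradedRing 𝒜] (p : Ideal A) [p.IsPrime]

local notation "R₀" => HomogeneousLocalization.AtPrime 𝒜 p
local notation "L" => Localization.AtPrime p

/-- `a ↦ ∑ aᵢ Xⁱ` into the polynomials over the localization at `p`. -/
noncomputable def spread : A →+* L[X] :=
  (DirectSum.toSemiring (fun i => (monomial i).toAddMonoidHom.comp
      ((algebraMap A L).toAddMonoidHom.comp (𝒜 i).subtype))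
    (by
      show monomial 0 (algebraMap A L 1) = 1
      rw [map_one, monomial_zero_one])
    (fun {i j} a b => by
      show monomial (i + j) (algebraMap A L (a.1 * b.1)) = monomial i (algebraMap A L a.1) * monomial j (algebraMap A L b.1)
      rw [map_mul, monomial_mul_monomial])).comp (DirectSum.decomposeRingEquiv 𝒜).toRingHom

theorem spread_of_mem {i : ℕ} {a : A} (ha : a ∈ 𝒜 i) : spread 𝒜 p a = monomial i (algebraMap A L a) := by
  rw [spread, RingHom.comp_apply]
  erw [DirectSum.decompose_of_mem 𝒜 ha, DirectSum.toSemiring_of]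
  rfl

theorem spread_mem_nonZeroDivisors {t : A} (ht : t ∉ p) : spread 𝒜 p t ∈ nonZeroDivisors L[X] := by
  classical
  rw [Polynomial.mem_nonZeroDivisors_iff]
  intro a ha
  obtain ⟨i, hi⟩ : ∃ i, (DirectSum.decompose 𝒜 t i : A) ∉ p := by
    by_contra! h
    refine ht ?_
    rw [← DirectSum.sum_support_decompose 𝒜 t]
    exact sum_mem fun i _ => h i
  have hc : (spread 𝒜 p t).coeff i = algebraMap A L (DirectSum.decompose 𝒜 t i : A) := by
    conv_lhs => rw [← DirectSum.sum_support_decompose 𝒜 t, map_sum, finsetSum_coeff]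
    simp only [spread_of_mem 𝒜 p (SetLike.coe_mem _), coeff_monomial]
    rw [Finset.sum_ite_eq']
    split_ifs with h
    · rfl
    · rw [DFinsupp.notMem_support_iff.1 h, ZeroMemClass.coe_zero, map_zero]
  have h0 : a * (spread 𝒜 p t).coeff i = 0 := by
    rw [← smul_eq_mul, ← coeff_smul, ha, coeff_zero]
  rw [hc] at h0
  exact (IsLocalization.map_units L (⟨_, hi⟩ : p.primeCompl)).mul_left_eq_zero.1 h0

variable {e : ℕ} {f g : A} (hf : f ∈ 𝒜 e) (hfp : f ∉ p) (hg : g ∈ 𝒜 (e + 1)) (hgp : g ∉ p)

/-- The unit of degree one. -/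
noncomputable def unitOne : L := Localization.mk g (⟨f, hfp⟩ : p.primeCompl)

/-- `T ↦ g / f`. -/
noncomputable def toLoc : R₀[X] →+* L := eval₂RingHom (algebraMap R₀ L) (unitOne p (g := g) hfp)

include hf hfp hg hgp

theorem exists_toLoc_eq (a : A) : ∃ q : R₀[X], toLoc 𝒜 p (g := g) hfp q = algebraMap A L a := by
  induction a using DirectSum.Decomposition.inductionOn 𝒜 with
  | zero => exact ⟨0, by simp⟩
  | add a b ha hb =>
    obtain ⟨q, hq⟩ := ha; obtain ⟨r, hr⟩ := hb
    exact ⟨q + r, by rw [map_add, map_add, hq, hr]⟩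
  | @homogeneous i a =>
    have h1 : (a : A) * f ^ i ∈ 𝒜 (i * (e + 1)) := by
      rw [Nat.mul_succ, add_comm]
      exact SetLike.mul_mem_graded a.2 (SetLike.pow_mem_graded i hf)
    have h2 : g ^ i ∈ 𝒜 (i * (e + 1)) := SetLike.pow_mem_graded i hg
    have h3 : g ^ i ∈ p.primeCompl := fun h => hgp (‹p.IsPrime›.mem_of_pow_mem i h)
    refine ⟨C (HomogeneousLocalization.mk ⟨i * (e + 1), ⟨_, h1⟩, ⟨_, h2⟩, h3⟩) * X ^ i, ?_⟩
    rw [toLoc, coe_eval₂RingHom, eval₂_mul, eval₂_C, eval₂_X_pow, HomogeneousLocalization.algebraMap_apply, val_mk, unitOne,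
      Localization.mk_pow, Localization.mk_mul, ← Localization.mk_one_eq_algebraMap, Localization.mk_eq_mk_iff,
      Localization.r_iff_exists]
    exact ⟨1, by simp; ring⟩

theorem toLoc_injective : Function.Injective (toLoc 𝒜 p (g := g) hfp) := by
  classical
  rw [injective_iff_map_eq_zero]
  intro q hq
  have hmk : ∀ i, ∃ c : HomogeneousLocalization.NumDenSameDeg 𝒜 p.primeCompl, q.coeff i = mk c :=
    fun i => ⟨_, (Quotient.out_eq' (q.coeff i)).symm⟩
  choose c hc using hmk
  let N := q.natDegree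
  let T := Finset.range (N + 1)
  let D := ∑ i ∈ T, (c i).deg
  obtain ⟨b, hbdef⟩ : ∃ b : ℕ → A, ∀ i, b i = (c i).num.1 * ∏ j ∈ T.erase i, (c j).den.1 := ⟨_, fun _ => rfl⟩
  let S : A := ∏ j ∈ T, (c j).den.1
  have hb : ∀ i ∈ T, b i ∈ 𝒜 D := fun i hi => by
    rw [hbdef, show D = (c i).deg + ∑ j ∈ T.erase i, (c j).deg from (Finset.add_sum_erase T _ hi).symm]
    exact SetLike.mul_mem_graded (c i).num.2
      (SetLike.prod_mem_graded 𝒜 (fun j => (c j).deg) (fun j => ((c j).den : A)) fun j _ => (c j).den.2)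
  have hbS : ∀ i ∈ T, algebraMap A L (b i) = algebraMap A L S * (q.coeff i).val := fun i hi => by
    rw [hc i, val_mk, ← Localization.mk_one_eq_algebraMap, ← Localization.mk_one_eq_algebraMap, Localization.mk_mul,
      Localization.mk_eq_mk_iff, Localization.r_iff_exists]
    refine ⟨1, ?_⟩
    rw [hbdef]
    simp only [S, OneMemClass.coe_one, one_mul]
    rw [← Finset.mul_prod_erase T _ hi]
    ring
  let Z : A := ∑ i ∈ T, b i * (g ^ i * f ^ (N - i))
  have hZmem : ∀ i ∈ T, b i * (g ^ i * f ^ (N - i)) ∈ 𝒜 (D + N * e + i) := fun i hi => by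
    have hiN : i ≤ N := Nat.lt_succ_iff.1 (Finset.mem_range.1 hi)
    have h := SetLike.mul_mem_graded (hb i hi)
      (SetLike.mul_mem_graded (SetLike.pow_mem_graded i hg) (SetLike.pow_mem_graded (N - i) hf))
    simp only [smul_eq_mul] at h
    obtain ⟨m, hm⟩ := Nat.exists_eq_add_of_le hiN
    have he : D + (i * (e + 1) + (N - i) * e) = D + N * e + i := by
      rw [hm, Nat.add_sub_cancel_left]; ring
    exact he ▸ h
  have hfu : algebraMap A L f * unitOne p (g := g) hfp = algebraMap A L g := by
    rw [unitOne, ← Localization.mk_one_eq_algebraMap, ← Localization.mk_one_eq_algebraMap, Localization.mk_mul,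
      Localization.mk_eq_mk_iff, Localization.r_iff_exists]
    exact ⟨1, by simp <;> ring⟩
  have hZ : algebraMap A L Z = 0 := by
    have h : algebraMap A L S * algebraMap A L f ^ N * toLoc 𝒜 p (g := g) hfp q = algebraMap A L Z := by
      rw [toLoc, coe_eval₂RingHom, eval₂_eq_sum_range, Finset.mul_sum, map_sum]
      refine Finset.sum_congr rfl fun i hi => ?_
      rw [map_mul, map_mul, hbS i hi, map_pow, map_pow, HomogeneousLocalization.algebraMap_apply, ← hfu, mul_pow,
        ← Nat.add_sub_cancel' (Nat.lt_succ_iff.1 (Finset.mem_range.1 hi)), pow_add]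
      simp only [Nat.add_sub_cancel_left]
      ring
    rw [← h, hq, mul_zero]
  obtain ⟨⟨t, ht⟩, htZ⟩ := (IsLocalization.map_eq_zero_iff p.primeCompl L Z).1 hZ
  have hsp : spread 𝒜 p Z = 0 := by
    refine (mem_nonZeroDivisors_iff.1 (spread_mem_nonZeroDivisors 𝒜 p ht)).2 _ ?_
    rw [← map_mul, mul_comm, htZ, map_zero]
  refine Polynomial.ext fun i => ?_
  rw [coeff_zero]
  by_cases hi : i ∈ T
  swap
  · exact coeff_eq_zero_of_natDegree_lt (by simpa [T, N] using hi)
  refine val_injective _ ?_
  rw [val_zero]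
  have hcoef := congrArg (fun z => z.coeff (D + N * e + i)) hsp
  simp only [Z, map_sum, finsetSum_coeff, coeff_zero] at hcoef
  rw [Finset.sum_eq_single i (fun j hj hji => by
      rw [spread_of_mem 𝒜 p (hZmem j hj), coeff_monomial, if_neg (by omega)]) (fun h => (h hi).elim),
    spread_of_mem 𝒜 p (hZmem i hi), coeff_monomial, if_pos rfl, map_mul, map_mul, hbS i hi, map_pow, map_pow] at hcoef
  have hu : ∀ (s : A), s ∉ p → IsUnit (algebraMap A L s) := fun s hs =>
    IsLocalization.map_units L (⟨s, hs⟩ : p.primeCompl)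
  have hS : IsUnit (algebraMap A L S) := hu _ (p.primeCompl.prod_mem fun j _ => (c j).den_mem)
  exact hS.mul_right_eq_zero.1 ((((hu g hgp).pow i).mul ((hu f hfp).pow (N - i))).mul_left_eq_zero.1 hcoef)

/-- The localization at `p` is flat over the degree zero part of the homogeneous localization. -/
theorem flat_atPrime : Module.Flat R₀ L := by
  letI : Algebra R₀[X] L := (toLoc 𝒜 p (g := g) hfp).toAlgebra
  haveI : IsScalarTower R₀ R₀[X] L := IsScalarTower.of_algebraMap_eq fun r => by
    show _ = toLoc 𝒜 p (g := g) hfp (C r)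
    rw [toLoc, coe_eval₂RingHom, eval₂_C]
  let P : Ideal R₀[X] := (IsLocalRing.maximalIdeal L).comap (toLoc 𝒜 p (g := g) hfp)
  haveI : IsLocalization P.primeCompl L := by
    rw [isLocalization_iff]
    refine ⟨fun y => ?_, fun z => ?_, fun {x y} h => ⟨1, by rw [toLoc_injective 𝒜 p hf hfp hg hgp h]⟩⟩
    · exact IsLocalRing.notMem_maximalIdeal.1 y.2
    · induction z using Localization.induction_on with
      | _ y =>
        obtain ⟨qa, hqa⟩ := exists_toLoc_eq 𝒜 p hf hfp hg hgp y.1
        obtain ⟨qs, hqs⟩ := exists_toLoc_eq 𝒜 p hf hfp hg hgp (y.2 : A)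
        refine ⟨(qa, ⟨qs, fun h => ?_⟩), ?_⟩
        · exact IsLocalRing.notMem_maximalIdeal.2 (hqs ▸ IsLocalization.map_units L y.2) h
        · show _ * toLoc 𝒜 p (g := g) hfp qs = toLoc 𝒜 p (g := g) hfp qa
          rw [hqa, hqs, ← Localization.mk_one_eq_algebraMap, ← Localization.mk_one_eq_algebraMap, Localization.mk_mul,
            Localization.mk_eq_mk_iff, Localization.r_iff_exists]
          exact ⟨1, by simp; ring⟩
  haveI : Module.Flat R₀[X] L := IsLocalization.flat L P.primeCompl
  exact Module.Flat.trans R₀ R₀[X] L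

/-- The degree zero part is Gorenstein if the localization at `p` is. -/
theorem gorenstein_atPrime (hL : LocCoh.IsGorensteinLocalRing L) : LocCoh.IsGorensteinLocalRing R₀ := by
  haveI := flat_atPrime 𝒜 p hf hfp hg hgp
  haveI := hL
  haveI hloc : IsLocalHom (algebraMap R₀ L) := ⟨fun a ha => (isUnit_iff_isUnit_val 𝒜 p a).1 ha⟩
  haveI : Module.FaithfullyFlat R₀ L := Module.FaithfullyFlat.of_flat_of_isLocalHom
  haveI : IsNoetherianRing R₀ := by
    rw [isNoetherianRing_iff, isNoetherian_iff']
    exact StrictMono.wellFoundedGT (f := fun I : Ideal R₀ => I.map (algebraMap R₀ L))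
      ((Ideal.gc_map_comap (algebraMap R₀ L)).monotone_l.strictMono_of_injective fun I J h => by
        have := congrArg (Ideal.comap (algebraMap R₀ L)) h
        rwa [Ideal.comap_map_eq_self_of_faithfullyFlat, Ideal.comap_map_eq_self_of_faithfullyFlat] at this)
  exact (DualLib.GorFlat.gor_flat_iff.1 hL).1

end Groth.Agent.GrProjLib
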